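import Groth.Agent.Lib.InvRing21.MatRep
import Groth.Agent.Lib.InvRing21.Semi
import Groth.Agent.Lib.InvRing21.GLSmooth
import Groth.Agent.Lib.DiagGL.Chars
import Mathlib.RingTheory.FiniteType

/-!
# Affine groups of finite type are closed subgroups of `GL_n`
-/

set_option autoImplicit false
set_option linter.style.haveILetI false
set_option backward.isDefEq.respectTransparency.types false
universe u

open CategoryTheory MonoidalCategory CartesianMonoidalCategory MonObj AlgebraicGeometry
open scoped TensorProduct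

noncomputable section

namespace Groth.Agent.GrassAct21

variable {k : Type u} [Field k]

attribute [local instance] InvRing21.gamAlg

/-- An affine group of finite type is a closed subgroup of some `GL_n`. -/
theorem exists_embedding_GL (G : Over (Spec (CommRingCat.of k))) [GrpObj G] [IsAffine G.left]
    [LocallyOfFiniteType G.hom] :
    ∃ (n : ℕ) (r : G ⟶ CoactBr.sp k (CoordGrp.GLn n k)), IsMonHom r ∧ IsClosedImmersion r.left := by
  classical
  haveI := InvRing21.finiteType_gam G
  obtain ⟨s, hs⟩ := Algebra.FiniteType.out (R := k) (A := Γ(G.left, ⊤))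
  obtain ⟨W, hfin, hsW, hW⟩ := InvRing21.exists_stable_span (InvRing21.regular G) s
  haveI := hfin
  haveI : Module.Free k W := Module.Free.of_divisionRing _ _
  let n := Module.finrank k W
  let e : Module.Basis (Fin n) k W := Module.finBasis k W
  obtain ⟨ξ, hξ, hexp, hE⟩ := InvRing21.exists_coords (InvRing21.regular G) hW e
  let v : Fin n → Γ(G.left, ⊤) := fun j => (e j : Γ(G.left, ⊤))
  let C : Matrix (Fin n) (Fin n) Γ(G.left, ⊤) :=
    Matrix.of fun a b => InvRing21.coef (InvRing21.regular G) (ξ a) (v b)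
  let R : ∀ {T : Over (Spec (CommRingCat.of k))}, (T ⟶ G) → Matrix (Fin n) (Fin n) Γ(T.left, ⊤) :=
    fun x => C.map x.left.appTop
  have hmul : ∀ {T : Over (Spec (CommRingCat.of k))} (x y : T ⟶ G), R (x * y) = R x * R y := fun x y =>
    Matrix.ext fun a b => by
      simp only [R, C, Matrix.map_apply, Matrix.of_apply, Matrix.mul_apply]
      exact InvRing21.appTop_coef_mul _ v ξ hE x y a b
  have hone : ∀ T : Over (Spec (CommRingCat.of k)), R (1 : T ⟶ G) = 1 := fun T => Matrix.ext fun a b => by
    simp only [R, C, Matrix.map_apply, Matrix.of_apply, Matrix.one_apply]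
    exact InvRing21.appTop_coef_one _ v ξ hξ T a b
  let G' := CoactBr.sp k (CoordGrp.GLn n k)
  let Mt : DiagGL.Mats n G' := DiagGL.matsGLn k n
  obtain ⟨r, hr⟩ := Mt.surj (T := G) (A := R (𝟙 G))
    (IsUnit.of_mul_eq_one (R (𝟙 G)⁻¹) (by rw [← hmul, mul_inv_cancel, hone]))
  have hall : ∀ {T : Over (Spec (CommRingCat.of k))} (x : T ⟶ G), Mt.mat (x ≫ r) = R x := fun {T} x => by
    rw [Mt.nat, hr]
    ext a b
    rfl
  haveI hrm : IsMonHom r := { one_hom := Mt.inj (by rw [hall, MonObj.one_eq_one, MonObj.one_eq_one, hone, Mt.one]),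
                              mul_hom := Mt.inj (by
                                rw [hall, MonObj.mul_eq_mul, MonObj.mul_eq_mul, hmul, MonObj.comp_mul, Mt.mul]
                                congr 1
                                · rw [tensorHom_fst, hall]
                                · rw [tensorHom_snd, hall]) }
  haveI : IsAffine G'.left := inferInstanceAs (IsAffine (Spec _))
  have hC : ∀ a b, C a b ∈ (InvRing21.appAlg r).range := fun a b => by
    refine ⟨Mt.mat (𝟙 G') a b, ?_⟩
    have h1 := congrFun (congrFun ((Mt.nat r (𝟙 G')).symm.trans ((congrArg Mt.mat (Category.comp_id r)).trans hr)) a) b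
    refine h1.trans ?_
    show ((𝟙 G : G ⟶ G).left.appTop) (C a b) = C a b
    simp
  have hv : ∀ b, v b ∈ (InvRing21.appAlg r).range := by
    intro b
    let ε : Γ(G.left, ⊤) →ₐ[k] Γ(G.left, ⊤) :=
      (Algebra.ofId k _).comp (InvRing21.val (1 : VecGrp.pt k k ⟶ G))
    let ψ : Γ(G.left, ⊤) ⊗[k] Γ(G.left, ⊤) →ₐ[k] Γ(G.left, ⊤) :=
      Algebra.TensorProduct.lift (AlgHom.id k _) ε fun _ _ => mul_comm _ _
    have h := congrArg ψ (hE b Γ(G.left, ⊤) (InvRing21.uPt G))
    rw [InvRing21.regular_one_tmul, ← AlgHom.comp_apply, ← InvRing21.val_ptMap, MonObj.comp_mul, map_sum] at h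
    have h1 : VecGrp.ptMap ψ ≫ InvRing21.xPt G Γ(G.left, ⊤) = 1 := by
      rw [InvRing21.xPt, ← Category.assoc, InvRing21.ptMap_comp,
        show ψ.comp Algebra.TensorProduct.includeRight = ε from AlgHom.ext fun x => by simp [ψ]]
      show VecGrp.ptMap ((Algebra.ofId k _).comp (InvRing21.val (1 : VecGrp.pt k k ⟶ G))) ≫ InvRing21.uPt G = 1
      rw [← InvRing21.ptMap_comp, Category.assoc, InvRing21.ptMap_val, MonObj.comp_one]
    have h2 : VecGrp.ptMap ψ ≫ InvRing21.gPt (InvRing21.uPt G) = InvRing21.uPt G := by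
      rw [InvRing21.gPt, ← Category.assoc, InvRing21.ptMap_comp,
        show ψ.comp (Algebra.TensorProduct.includeLeft (S := k)) = AlgHom.id k _ from AlgHom.ext fun x => by simp [ψ],
        show VecGrp.ptMap (AlgHom.id k Γ(G.left, ⊤)) = 𝟙 _ from Over.OverMorphism.ext (Spec.map_id _),
        Category.id_comp]
    rw [h1, h2, _root_.one_mul (InvRing21.uPt G), InvRing21.val_uPt] at h
    have h' : v b = ∑ a, C a b * ε (v a) := h.trans (Finset.sum_congr rfl fun a _ =>
      Algebra.TensorProduct.lift_tmul (AlgHom.id k _) ε (fun _ _ => mul_comm _ _) _ _)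
    rw [h']
    exact Subalgebra.sum_mem _ fun a _ => Subalgebra.mul_mem _ (hC a b) (Subalgebra.algebraMap_mem _ _)
  have hspan : ∀ w ∈ W, w ∈ (InvRing21.appAlg r).range := fun w hw => by
    rw [hexp w hw]
    exact Subalgebra.sum_mem _ fun a _ => Subalgebra.smul_mem _ (hv a) _
  have hsurj : Function.Surjective (InvRing21.appAlg r) := fun f => by
    have : f ∈ (InvRing21.appAlg r).range := (Algebra.adjoin_le (fun x hx => hspan x (hsW x hx))) (hs ▸ trivial)
    exact this
  exact ⟨n, r, hrm, IsClosedImmersion.of_surjective_of_isAffine r.left hsurj⟩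

end Groth.Agent.GrassAct21
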