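import Groth.Agent.Lib.GrassAct21.Quot
import Groth.Agent.Lib.GrassAct21.Embed
import Groth.Agent.Lib.GrpQuot.SubDesc

/-!
# Quotients of affine groups of finite type by closed subgroups
-/

set_option autoImplicit false
set_option linter.style.haveILetI false
set_option backward.isDefEq.respectTransparency.types false
universe u

open CategoryTheory MonoidalCategory CartesianMonoidalCategory MonObj AlgebraicGeometry

noncomputable section

namespace Groth.Agent.GrassAct21

variable {k : Type u} [Field k]

set_option maxHeartbeats 1600000 in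
/-- Quotients of affine groups of finite type by closed subgroups. -/
theorem exists_quotient_affine {G H : Over (Spec (CommRingCat.of k))} [GrpObj G] [GrpObj H] [IsAffine G.left]
    [LocallyOfFiniteType G.hom] (i : H ⟶ G) [IsMonHom i] [IsClosedImmersion i.left] :
    ∃ (X : Over (Spec (CommRingCat.of k))) (a : AlgGrp.Action G X) (o : 𝟙_ (Over (Spec (CommRingCat.of k))) ⟶ X),
      AGF.IsQuotient i X a o ∧ IsSeparated X.hom ∧ QuasiCompact X.hom := by
  obtain ⟨n, r, hr, hrc⟩ := exists_embedding_GL G
  haveI := hr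
  haveI := hrc
  let G' := CoactBr.sp k (CoordGrp.GLn n k)
  haveI : IsAffine G'.left := inferInstanceAs (IsAffine (Spec _))
  haveI : Smooth G'.hom := InvRing21.smooth_sp_GLn k n
  haveI : IsClosedImmersion (i ≫ r).left := inferInstanceAs (IsClosedImmersion (i.left ≫ r.left))
  obtain ⟨X, a, o, hX, hXs, hXq⟩ := exists_quotient (i ≫ r)
  haveI := hXs
  haveI := hXq
  obtain ⟨hlft, hflat, hsurj, hpb⟩ := hX
  haveI := hlft
  haveI := hflat
  haveI := hsurj
  let q : G' ⟶ X := a.orbitMap o
  haveI : Mono r := Over.mono_of_mono_left r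
  haveI : Mono i := Over.mono_of_mono_left i
  -- the image of the subgroup
  let f : G ⟶ X := r ≫ q
  haveI : QuasiCompact f.left := by
    haveI : QuasiCompact (f.left ≫ X.hom) := by rw [Over.w f]; infer_instance
    exact QuasiCompact.of_comp f.left X.hom
  let Z : Over (Spec (CommRingCat.of k)) := Over.mk (f.left.imageι ≫ X.hom)
  let z : Z ⟶ X := Over.homMk f.left.imageι rfl
  let p : G ⟶ Z := Over.homMk f.left.toImage (by
    show f.left.toImage ≫ f.left.imageι ≫ X.hom = G.hom
    rw [Scheme.Hom.toImage_imageι_assoc, Over.w])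
  have hpz : p ≫ z = f := Over.OverMorphism.ext f.left.toImage_imageι
  haveI : IsClosedImmersion z.left := inferInstanceAs (IsClosedImmersion f.left.imageι)
  haveI : Mono z := Over.mono_of_mono_left z
  -- the translate of a point of the subgroup stays inside
  have htr : ∀ {T : Over (Spec (CommRingCat.of k))} (g : T ⟶ G) (g' : T ⟶ G'), g ≫ r ≫ q = g' ≫ q →
      ∃ h : T ⟶ H, g' = (g * (h ≫ i)) ≫ r := by
    intro T g g' he
    obtain ⟨t, ht1, ht2⟩ := hpb.exists_lift (g ≫ r) g' (by rw [Category.assoc]; exact he)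
    refine ⟨t ≫ snd G' H, ?_⟩
    rw [← ht2, InvRing21.whisker_mul, MonObj.comp_mul, ht1, MonObj.mul_comp, Category.assoc, Category.assoc]
  have hker : (Limits.pullback.fst q.left f.left).ker = r.left.ker := by
    refine le_antisymm ?_ ?_
    · have hs : r.left ≫ q.left = 𝟙 G.left ≫ f.left := by
        rw [Category.id_comp]; rfl
      conv_rhs => rw [← Limits.pullback.lift_fst r.left (𝟙 G.left) hs]
      exact Scheme.Hom.le_ker_comp _ _
    · let P : Over (Spec (CommRingCat.of k)) := Over.mk (Limits.pullback.fst q.left f.left ≫ G'.hom)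
      let p₁ : P ⟶ G' := Over.homMk (Limits.pullback.fst q.left f.left) rfl
      let p₂ : P ⟶ G := Over.homMk (Limits.pullback.snd q.left f.left) (by
        show Limits.pullback.snd q.left f.left ≫ G.hom = Limits.pullback.fst q.left f.left ≫ G'.hom
        rw [← Over.w f, ← Over.w q, Limits.pullback.condition_assoc])
      obtain ⟨h, hh⟩ := htr p₂ p₁ (Over.OverMorphism.ext (by
        show Limits.pullback.snd q.left f.left ≫ f.left = Limits.pullback.fst q.left f.left ≫ q.left
        exact Limits.pullback.condition.symm))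
      have he : Limits.pullback.fst q.left f.left = (p₂ * (h ≫ i)).left ≫ r.left :=
        congrArg CommaMorphism.left hh
      rw [he]
      exact Scheme.Hom.le_ker_comp _ _
  -- the preimage of the image is the subgroup
  have hsq : IsPullback r.left p.left q.left z.left := by
    let π := Limits.pullback.fst q.left z.left
    haveI : IsClosedImmersion π := inferInstanceAs (IsClosedImmersion (Limits.pullback.fst q.left z.left))
    let m : G.left ⟶ Limits.pullback q.left z.left :=
      Limits.pullback.lift r.left p.left (by rw [← Over.comp_left, ← Over.comp_left, hpz])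
    have hπ : π.ker = r.left.ker := by
      show (Limits.pullback.fst q.left f.left.imageι).ker = _
      rw [Scheme.IdealSheafData.ker_fst_of_isClosedImmersion, Scheme.IdealSheafData.ker_subschemeι, ← hker,
        GrpQuot.SubDesc.ker_pullback_fst_eq_comap]
    let m' := IsClosedImmersion.lift r.left π hπ.ge
    have hm' : m' ≫ r.left = π := IsClosedImmersion.lift_fac _ _ _
    have hm : m ≫ π = r.left := Limits.pullback.lift_fst _ _ _
    let e : G.left ≅ Limits.pullback q.left z.left :=
      ⟨m, m', by rw [← cancel_mono r.left, Category.assoc, hm', hm, Category.id_comp],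
        by rw [← cancel_mono π, Category.assoc, hm, hm', Category.id_comp]⟩
    exact (IsPullback.of_hasPullback q.left z.left).of_iso e.symm (Iso.refl _) (Iso.refl _) (Iso.refl _)
      (by simpa [e] using hm'.symm) (by
        show Limits.pullback.snd q.left z.left ≫ 𝟙 _ = m' ≫ p.left
        rw [Category.comp_id, ← cancel_mono z.left, ← Limits.pullback.condition, Category.assoc,
          ← Over.comp_left, hpz]
        show _ = m' ≫ r.left ≫ q.left
        rw [reassoc_of% hm']) (by simp) (by simp)
  haveI : Flat p.left := MorphismProperty.of_isPullback (P := @Flat) hsq hflat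
  haveI : Surjective p.left := MorphismProperty.of_isPullback (P := @Surjective) hsq hsurj
  haveI : QuasiCompact p.left := GrpImage19.quasiCompact_of_factor f z p hpz
  haveI : IsSchemeTheoreticallyDominant p.left := inferInstance
  -- the action
  haveI : IsSchemeTheoreticallyDominant (G ◁ p).left := by
    haveI : IsSchemeTheoreticallyDominant ((Over.forget _).map p) := ‹IsSchemeTheoreticallyDominant p.left›
    haveI : QuasiCompact ((Over.forget _).map p) := ‹QuasiCompact p.left›
    haveI : @Flat _ _ ((Over.forget _).map (snd G Z)) := AbRigid.flat_snd_left G Z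
    exact @IsSchemeTheoreticallyDominant.of_isPullback _ _ _ _ _ _ _ _
      ((AbRigid.isPullback_whiskerLeft p G).map (Over.forget _)) _ _ (AbRigid.flat_snd_left G Z)
  have hra : (G ◁ p) ≫ (G ◁ z) ≫ (a.restrict r).act = (μ[G] ≫ p) ≫ z := by
    rw [← MonoidalCategory.whiskerLeft_comp_assoc, hpz, Category.assoc μ[G], hpz]
    have e : (G ◁ f) = lift (fst G G) (snd G G ≫ f) :=
      CartesianMonoidalCategory.hom_ext _ _ (by simp) (by simp)
    rw [e, AlgGrp.Action.lift_restrict_act]
    show lift (fst G G ≫ r) (snd G G ≫ r ≫ a.orbitMap o) ≫ a.act = μ[G] ≫ r ≫ a.orbitMap o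
    rw [← Category.assoc (snd G G), AlgGrp.Action.comp_orbitMap, ← AlgGrpBasic19.act_mul,
      ← AlgGrp.Action.comp_orbitMap, ← MonObj.mul_comp, Category.assoc]
    congr 1
    rw [Hom.mul_def, lift_fst_snd, Category.id_comp]
  obtain ⟨act, hact⟩ : ∃ act : G ⊗ Z ⟶ Z, act ≫ z = (G ◁ z) ≫ (a.restrict r).act := by
    set hZ := (G ◁ z) ≫ (a.restrict r).act
    have hk : z.left.ker ≤ hZ.left.ker := by
      calc z.left.ker ≤ ((μ[G] ≫ p).left ≫ z.left).ker := Scheme.Hom.le_ker_comp _ _
        _ = ((G ◁ p).left ≫ hZ.left).ker := by rw [← Over.comp_left, ← hra, Over.comp_left]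
        _ = hZ.left.ker := by
          rw [Scheme.Hom.ker_comp, (G ◁ p).left.ker_eq_bot, Scheme.IdealSheafData.map_bot]
    refine ⟨Over.homMk (IsClosedImmersion.lift z.left hZ.left hk) ?_,
      Over.OverMorphism.ext (IsClosedImmersion.lift_fac _ _ _)⟩
    rw [← Over.w z, IsClosedImmersion.lift_fac_assoc, Over.w]
  let b : AlgGrp.Action G Z :=
    { act := act
      one_act := by
        rw [← cancel_mono z, Category.assoc, hact, ← MonoidalCategory.whisker_exchange_assoc,
          (a.restrict r).one_act, leftUnitor_naturality]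
      mul_act := by
        rw [← cancel_mono z, Category.assoc, hact, ← MonoidalCategory.whisker_exchange_assoc,
          (a.restrict r).mul_act, Category.assoc, Category.assoc, hact, MonoidalCategory.tensor_whiskerLeft]
        simp only [Category.assoc, Iso.inv_hom_id_assoc]
        rw [← MonoidalCategory.whiskerLeft_comp_assoc G (G ◁ z), ← hact, MonoidalCategory.whiskerLeft_comp_assoc,
          hact] }
  let oZ : 𝟙_ (Over (Spec (CommRingCat.of k))) ⟶ Z := η[G] ≫ p
  have hoZ : oZ ≫ z = o := by
    show (η[G] ≫ p) ≫ z = o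
    rw [Category.assoc, hpz, ← Category.assoc, IsMonHom.one_hom, AlgGrp.Action.comp_orbitMap, MonObj.one_eq_one,
      AlgGrpBasic19.act_one, toUnit_unique (toUnit _) (𝟙 _), Category.id_comp]
  have horb : b.orbitMap oZ = p := by
    rw [← cancel_mono z, hpz]
    show (lift (𝟙 G) (toUnit G ≫ oZ) ≫ act) ≫ z = r ≫ a.orbitMap o
    rw [Category.assoc, hact, lift_whiskerLeft_assoc, Category.assoc, hoZ, AlgGrp.Action.lift_restrict_act,
      AlgGrp.Action.comp_orbitMap, Category.id_comp]
  have horbT : ∀ {T : Over (Spec (CommRingCat.of k))} (g : T ⟶ G), (g ≫ r) ≫ q = (g ≫ p) ≫ z := fun g => by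
    rw [Category.assoc, Category.assoc, hpz]
  have w : fst G H ≫ b.orbitMap oZ = ((G ◁ i) ≫ μ[G]) ≫ b.orbitMap oZ := by
    rw [horb, ← cancel_mono z, ← horbT, ← horbT]
    let L : G ⊗ H ⟶ G' ⊗ H := r ▷ H
    have h := congrArg (L ≫ ·) hpb.w
    have e1 : (fst G H ≫ r) = L ≫ fst G' H := (whiskerRight_fst r H).symm
    have e2 : ((G ◁ i) ≫ μ[G]) ≫ r = L ≫ (G' ◁ (i ≫ r)) ≫ μ[G'] := by
      rw [InvRing21.whisker_mul, InvRing21.whisker_mul, MonObj.comp_mul, MonObj.mul_comp,
        ← Category.assoc L (snd G' H), whiskerRight_snd, ← e1, Category.assoc]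
    rw [e1, e2]
    simpa only [Category.assoc] using h
  have hpbZ : IsPullback (fst G H) ((G ◁ i) ≫ μ[G]) (b.orbitMap oZ) (b.orbitMap oZ) := by
    have hex : ∀ (s : Limits.PullbackCone (b.orbitMap oZ) (b.orbitMap oZ)),
        ∃ h : s.pt ⟶ H, s.snd = s.fst * (h ≫ i) := fun s => by
      obtain ⟨h, hh⟩ := htr s.fst (s.snd ≫ r) (by
        rw [← Category.assoc, horbT, horbT, ← horb, s.condition])
      exact ⟨h, (cancel_mono r).1 hh⟩
    choose h hh using hex
    refine IsPullback.of_isLimit' ⟨w⟩ (Limits.PullbackCone.IsLimit.mk w (fun s => lift s.fst (h s))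
      (fun s => lift_fst _ _) (fun s => ?_) fun s m hm₁ hm₂ => ?_)
    · rw [InvRing21.whisker_mul, MonObj.comp_mul, lift_fst, lift_snd_assoc, hh s]
    · refine CartesianMonoidalCategory.hom_ext _ _ (by rw [lift_fst, hm₁]) ?_
      rw [lift_snd, ← cancel_mono i]
      rw [InvRing21.whisker_mul, MonObj.comp_mul, hm₁, hh s, ← Category.assoc] at hm₂
      exact mul_left_cancel hm₂
  haveI : LocallyOfFiniteType Z.hom := inferInstanceAs (LocallyOfFiniteType (z.left ≫ X.hom))
  refine ⟨Z, b, oZ, ⟨inferInstance, ?_, ?_, hpbZ⟩, inferInstanceAs (IsSeparated (z.left ≫ X.hom)),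
    inferInstanceAs (QuasiCompact (z.left ≫ X.hom))⟩
  · rw [horb]; infer_instance
  · rw [horb]; infer_instance

end Groth.Agent.GrassAct21
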