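import Groth.Agent.Lib.GrassAct21.Sub
import Groth.Agent.Lib.BorelFix21.Stabilizer
import Groth.Agent.Lib.InvRing21.Quot
import Groth.Agent.S8022
import Mathlib.RingTheory.FiniteType

/-!
# A closed subgroup is the stabiliser of a point of a Grassmannian; quotients of smooth affine groups
-/

set_option autoImplicit false
set_option linter.style.haveILetI false
set_option backward.isDefEq.respectTransparency.types false
universe u

open CategoryTheory MonoidalCategory CartesianMonoidalCategory MonObj AlgebraicGeometry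
open scoped TensorProduct

noncomputable section

namespace Groth.Agent.GrassAct21

variable {k : Type u} [Field k]

attribute [local instance] InvRing21.gamAlg

variable {G : Over (Spec (CommRingCat.of k))} [GrpObj G] {M : Type u} [AddCommGroup M] [Module k M]

/-- A stable subspace carries a representation. -/
theorem exists_subMod_of_stable (ρ : VecGrp.GMod G M) (U : Submodule k M)
    (hU : ∀ w ∈ U, ∀ (B : Type u) [CommRing B] [Algebra k B] (g : VecGrp.pt k B ⟶ G),
      ∃ (n : ℕ) (c : Fin n → B) (u : Fin n → M), (∀ a, u a ∈ U) ∧ ρ.ρ B g (1 ⊗ₜ[k] w) = ∑ a, c a ⊗ₜ[k] u a) :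
    ∃ σ : VecGrp.GMod G U, ∀ (B : Type u) [CommRing B] [Algebra k B] (g : VecGrp.pt k B ⟶ G) (x : B ⊗[k] U),
      U.subtype.baseChange B (σ.ρ B g x) = ρ.ρ B g (U.subtype.baseChange B x) := by
  obtain ⟨π, hπ⟩ := LinearMap.exists_leftInverse_of_injective U.subtype U.ker_subtype
  have hπι : ∀ (B : Type u) [CommRing B] [Algebra k B] (x : B ⊗[k] U),
      π.baseChange B (U.subtype.baseChange B x) = x := fun B _ _ x => by
    rw [← LinearMap.comp_apply, ← LinearMap.baseChange_comp, hπ, LinearMap.baseChange_id, LinearMap.id_apply]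
  have hπu : ∀ u : M, u ∈ U → (π u : M) = u := fun u hu =>
    congrArg Subtype.val (LinearMap.congr_fun hπ ⟨u, hu⟩)
  have hkey : ∀ (B : Type u) [CommRing B] [Algebra k B] (g : VecGrp.pt k B ⟶ G) (x : B ⊗[k] U),
      U.subtype.baseChange B (π.baseChange B (ρ.ρ B g (U.subtype.baseChange B x))) =
        ρ.ρ B g (U.subtype.baseChange B x) := by
    intro B _ _ g x
    induction x using TensorProduct.induction_on with
    | zero => simp
    | add x y hx hy => simp only [map_add, hx, hy]
    | tmul b u =>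
      suffices h : U.subtype.baseChange B (π.baseChange B (ρ.ρ B g (1 ⊗ₜ[k] (u : M)))) = ρ.ρ B g (1 ⊗ₜ[k] (u : M)) by
        rw [show b ⊗ₜ[k] u = b • ((1 : B) ⊗ₜ[k] u) by rw [TensorProduct.smul_tmul', smul_eq_mul, _root_.mul_one],
          map_smul, map_smul, map_smul, map_smul, LinearMap.baseChange_tmul]
        exact congrArg (b • ·) h
      obtain ⟨n, c, v, hv, he⟩ := hU u u.2 B g
      rw [he, map_sum, map_sum]
      refine Finset.sum_congr rfl fun a _ => ?_
      rw [LinearMap.baseChange_tmul, LinearMap.baseChange_tmul]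
      exact congrArg _ (hπu _ (hv a))
  let op : ∀ (B : Type u) [CommRing B] [Algebra k B], (VecGrp.pt k B ⟶ G) → (B ⊗[k] U →ₗ[B] B ⊗[k] U) :=
    fun B _ _ g => π.baseChange B ∘ₗ (ρ.ρ B g).toLinearMap ∘ₗ U.subtype.baseChange B
  have hmul : ∀ (B : Type u) [CommRing B] [Algebra k B] (g g' : VecGrp.pt k B ⟶ G) (x : B ⊗[k] U),
      op B g (op B g' x) = op B (g * g') x := fun B _ _ g g' x => by
    show π.baseChange B (ρ.ρ B g (U.subtype.baseChange B (π.baseChange B _))) = π.baseChange B (ρ.ρ B (g * g') _)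
    rw [LinearMap.comp_apply, LinearEquiv.coe_coe, hkey, map_mul]
    rfl
  have hone : ∀ (B : Type u) [CommRing B] [Algebra k B] (x : B ⊗[k] U), op B 1 x = x := fun B _ _ x => by
    show π.baseChange B (ρ.ρ B 1 _) = x
    rw [map_one]
    exact hπι B x
  let hom : ∀ (B : Type u) [CommRing B] [Algebra k B], (VecGrp.pt k B ⟶ G) →* (B ⊗[k] U ≃ₗ[B] B ⊗[k] U) :=
    fun B _ _ =>
      { toFun := fun g => LinearEquiv.ofLinearMap (op B g) (op B g⁻¹)
          (LinearMap.ext fun x => by rw [LinearMap.comp_apply, hmul, mul_inv_cancel, hone]; rfl)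
          (LinearMap.ext fun x => by rw [LinearMap.comp_apply, hmul, inv_mul_cancel, hone]; rfl)
        map_one' := LinearEquiv.ext fun x => hone B x
        map_mul' := fun g g' => LinearEquiv.ext fun x => (hmul B g g' x).symm }
  refine ⟨⟨hom, fun {B B'} _ _ _ _ φ g x => ?_⟩, fun B _ _ g x => ?_⟩
  · show VecGrp.Wmap φ (π.baseChange B (ρ.ρ B g _)) = π.baseChange B' (ρ.ρ B' _ _)
    rw [VecGrp.baseChange_natural, ρ.naturality, VecGrp.baseChange_natural]
  · exact hkey B g x

variable [IsAffine G.left] [LocallyOfFiniteType G.hom]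

set_option maxHeartbeats 800000 in
/-- A closed subgroup is the stabiliser of a rational point of a Grassmannian. -/
theorem exists_stabilizer_sec {H : Over (Spec (CommRingCat.of k))} [GrpObj H] (i : H ⟶ G) [IsMonHom i]
    [IsClosedImmersion i.left] :
    ∃ (V : Type u) (_ : AddCommGroup V) (_ : Module k V) (r : ℕ) (σ : VecGrp.GMod G V) (N : GrassLib.Pt k V r k),
      Module.Finite k V ∧ r ≤ Module.finrank k V ∧
      IsPullback i (toUnit H) ((action σ).orbitMap (sec N)) (sec N) := by
  classical
  haveI : IsAffine H.left := isAffine_of_isAffineHom i.left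
  haveI := InvRing21.finiteType_gam G
  haveI : IsNoetherianRing Γ(G.left, ⊤) := Algebra.FiniteType.isNoetherianRing k _
  let A : Γ(G.left, ⊤) →ₐ[k] Γ(H.left, ⊤) := InvRing21.appAlg i
  have hA : Function.Surjective A := (IsClosedImmersion.isAffine_surjective_of_isAffine i.left).2
  obtain ⟨s, hs⟩ : (RingHom.ker A.toRingHom).FG := IsNoetherian.noetherian _
  obtain ⟨W, hfin, hsW, hW⟩ := InvRing21.exists_stable_span (InvRing21.regular G) s
  obtain ⟨σ, hσ⟩ := exists_subMod_of_stable (InvRing21.regular G) W hW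
  haveI := hfin
  let ψ : W →ₗ[k] Γ(H.left, ⊤) := A.toLinearMap ∘ₗ W.subtype
  let q : Submodule k (k ⊗[k] W) := LinearMap.ker (ψ.baseChange k)
  haveI : Module.Free k ((k ⊗[k] W) ⧸ q) := Module.Free.of_divisionRing _ _
  let N : GrassLib.Pt k W (Module.finrank k ((k ⊗[k] W) ⧸ q)) k :=
    { toSubmodule := q
      finite_quotient := inferInstance
      projective_quotient := inferInstance
      rankAtStalk_eq := fun p => by rw [Module.rankAtStalk_eq_finrank_of_free]; rfl }
  refine ⟨W, inferInstance, inferInstance, _, σ, N, hfin,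
    (Submodule.finrank_quotient_le q).trans (Module.finrank_baseChange (R := k)).le, ?_⟩
  haveI : Fact (Module.finrank k ((k ⊗[k] W) ⧸ q) ≤ Module.finrank k W) :=
    ⟨(Submodule.finrank_quotient_le q).trans (Module.finrank_baseChange (R := k)).le⟩
  -- the point over an algebra
  have hgN : ∀ (B : Type u) [CommRing B] [Algebra k B],
      (GrassLib.gmap (Algebra.ofId k B) N).toSubmodule = LinearMap.ker (ψ.baseChange B) := by
    intro B _ _
    rw [GrassLib.gmap_eq_span]
    refine le_antisymm (Submodule.span_le.2 ?_) fun z hz => ?_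
    · rintro _ ⟨v, hv, rfl⟩
      show ψ.baseChange B (GrassLib.tm (Algebra.ofId k B) v) = 0
      have e : ψ.baseChange B (GrassLib.tm (Algebra.ofId k B) v) =
          GrassLib.tm (Algebra.ofId k B) (ψ.baseChange k v) := by
        clear hv
        induction v using TensorProduct.induction_on with
        | zero => simp
        | tmul c w => rfl
        | add x y hx hy => simp only [map_add, hx, hy]
      rw [e, LinearMap.mem_ker.1 hv, map_zero]
    · obtain ⟨θ₀, hθ₀⟩ := LinearMap.exists_rightInverse_of_surjective ψ.rangeRestrict ψ.range_rangeRestrict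
      obtain ⟨π, hπ⟩ := LinearMap.exists_leftInverse_of_injective (LinearMap.range ψ).subtype
        (LinearMap.range ψ).ker_subtype
      let θ := θ₀ ∘ₗ π
      have hθ : ∀ w : W, ψ (w - θ (ψ w)) = 0 := fun w => by
        rw [map_sub, sub_eq_zero]
        have h1 : π (ψ w) = ψ.rangeRestrict w := LinearMap.congr_fun hπ (ψ.rangeRestrict w)
        have h2 := congrArg Subtype.val (LinearMap.congr_fun hθ₀ (ψ.rangeRestrict w))
        show ψ w = ψ (θ₀ (π (ψ w)))
        rw [h1]
        exact h2.symm
      suffices hspan : ∀ y : B ⊗[k] W, y - θ.baseChange B (ψ.baseChange B y) ∈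
          Submodule.span B (GrassLib.tm (Algebra.ofId k B) '' (N.toSubmodule : Set (k ⊗[k] W))) by
        have h := hspan z
        rwa [LinearMap.mem_ker.1 hz, map_zero, sub_zero] at h
      intro y
      induction y using TensorProduct.induction_on with
      | zero => simp
      | add x y hx hy => rw [map_add, map_add, add_sub_add_comm]; exact add_mem hx hy
      | tmul b w =>
        rw [LinearMap.baseChange_tmul, LinearMap.baseChange_tmul, ← TensorProduct.tmul_sub,
          show b ⊗ₜ[k] (w - θ (ψ w)) = b • ((1 : B) ⊗ₜ[k] (w - θ (ψ w))) by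
            rw [TensorProduct.smul_tmul', smul_eq_mul, _root_.mul_one]]
        refine Submodule.smul_mem _ _ (Submodule.subset_span ⟨(1 : k) ⊗ₜ[k] (w - θ (ψ w)), ?_, by simp⟩)
        show ψ.baseChange k ((1 : k) ⊗ₜ[k] (w - θ (ψ w))) = 0
        rw [LinearMap.baseChange_tmul, hθ, TensorProduct.tmul_zero]
  -- evaluation
  let Φ : ∀ (B : Type u) [CommRing B] [Algebra k B], B ⊗[k] Γ(G.left, ⊤) →ₐ[B] B ⊗[k] Γ(H.left, ⊤) :=
    fun B _ _ => Algebra.TensorProduct.map (AlgHom.id B B) A
  have hψ : ∀ (B : Type u) [CommRing B] [Algebra k B] (g : VecGrp.pt k B ⟶ G) (w : W),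
      ψ.baseChange B (σ.ρ B g (1 ⊗ₜ[k] w)) =
        Φ B (InvRing21.val (InvRing21.xPt G B * InvRing21.gPt g) (w : Γ(G.left, ⊤))) := by
    intro B _ _ g w
    have e : ∀ z : B ⊗[k] W, ψ.baseChange B z = Φ B (W.subtype.baseChange B z) := fun z => by
      induction z using TensorProduct.induction_on with
      | zero => simp
      | tmul b w => rfl
      | add x y hx hy => simp only [map_add, hx, hy]
    rw [e, hσ, LinearMap.baseChange_tmul, InvRing21.regular_one_tmul]
    rfl
  have hmem : ∀ (B : Type u) [CommRing B] [Algebra k B] (h : VecGrp.pt k B ⟶ H) (z : B ⊗[k] W),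
      z ∈ LinearMap.ker (ψ.baseChange B) → σ.ρ B (h ≫ i) z ∈ LinearMap.ker (ψ.baseChange B) := by
    intro B _ _ h z hz
    rw [← hgN, GrassLib.gmap_eq_span] at hz
    induction hz using Submodule.span_induction with
    | zero => simp
    | add x y _ _ hx hy => rw [map_add]; exact add_mem hx hy
    | smul c x _ hx => rw [map_smul]; exact Submodule.smul_mem _ _ hx
    | mem x hx =>
      obtain ⟨v, hv, rfl⟩ := hx
      have e : v = (1 : k) ⊗ₜ[k] TensorProduct.lid k W v := ((TensorProduct.lid k W).symm_apply_apply v).symm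
      have hv0 : A ((TensorProduct.lid k W v : W) : Γ(G.left, ⊤)) = 0 := by
        have h0 := congrArg (TensorProduct.lid k Γ(H.left, ⊤)) (LinearMap.mem_ker.1 hv)
        rw [lid_baseChange, map_zero] at h0
        exact h0
      rw [e, LinearMap.rTensor_tmul, show (Algebra.ofId k B).toLinearMap (1 : k) = 1 from map_one (Algebra.ofId k B), LinearMap.mem_ker,
        hψ]
      show ((Φ B).restrictScalars k).comp (InvRing21.val _) _ = 0
      rw [← InvRing21.val_ptMap, MonObj.comp_mul, InvRing21.gPt, ← Category.assoc, InvRing21.ptMap_comp,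
        InvRing21.xPt, ← Category.assoc, InvRing21.ptMap_comp]
      have e1 : ((Φ B).restrictScalars k).comp
          (Algebra.TensorProduct.includeRight : Γ(G.left, ⊤) →ₐ[k] B ⊗[k] Γ(G.left, ⊤)) =
          (Algebra.TensorProduct.includeRight : Γ(H.left, ⊤) →ₐ[k] B ⊗[k] Γ(H.left, ⊤)).comp A :=
        AlgHom.ext fun f => by simp [Φ]
      have e2 : ((Φ B).restrictScalars k).comp
          (Algebra.TensorProduct.includeLeft : B →ₐ[k] B ⊗[k] Γ(G.left, ⊤)) =
          (Algebra.TensorProduct.includeLeft : B →ₐ[k] B ⊗[k] Γ(H.left, ⊤)) := AlgHom.ext fun f => by simp [Φ]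
      rw [e1, e2, ← InvRing21.ptMap_comp, Category.assoc, InvRing21.ptMap_appAlg, ← Category.assoc,
        ← Category.assoc _ h i, ← MonObj.mul_comp, ← InvRing21.appTop_val]
      exact (congrArg (InvRing21.val _) hv0).trans (map_zero _)
  have key : ∀ (B : Type u) [CommRing B] [Algebra k B] (g : VecGrp.pt k B ⟶ G),
      g ≫ (action σ).orbitMap (sec N) = toUnit _ ≫ sec N ↔ ∃ h : VecGrp.pt k B ⟶ H, h ≫ i = g := by
    intro B _ _ g
    rw [comp_orbitMap_eq_iff]
    constructor
    · intro hg
      have hfix : ∀ z ∈ LinearMap.ker (ψ.baseChange B), σ.ρ B g z ∈ LinearMap.ker (ψ.baseChange B) := by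
        intro z hz
        rw [← hgN] at hz ⊢
        rw [← hg]
        exact ⟨z, hz, rfl⟩
      have hle : RingHom.ker A.toRingHom ≤ RingHom.ker (InvRing21.val g).toRingHom := by
        rw [← hs, Ideal.span_le]
        intro f hf
        have hfA : A f = 0 := by
          have : f ∈ RingHom.ker A.toRingHom := hs ▸ Ideal.subset_span hf
          exact this
        have h0 : (1 : B) ⊗ₜ[k] (⟨f, hsW f hf⟩ : W) ∈ LinearMap.ker (ψ.baseChange B) := by
          rw [LinearMap.mem_ker, LinearMap.baseChange_tmul]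
          show (1 : B) ⊗ₜ[k] A f = 0
          rw [hfA, TensorProduct.tmul_zero]
        have h1 := hfix _ h0
        rw [LinearMap.mem_ker, hψ] at h1
        let ε : Γ(H.left, ⊤) →ₐ[k] B := (Algebra.ofId k B).comp (InvRing21.val (1 : VecGrp.pt k k ⟶ H))
        let χ : B ⊗[k] Γ(H.left, ⊤) →ₐ[k] B :=
          Algebra.TensorProduct.lift (AlgHom.id k B) ε fun _ _ => mul_comm _ _
        show InvRing21.val g f = 0
        have h2 : InvRing21.val (VecGrp.ptMap (χ.comp ((Φ B).restrictScalars k)) ≫
            (InvRing21.xPt G B * InvRing21.gPt g)) f = 0 := by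
          rw [InvRing21.val_ptMap]
          exact (congrArg χ h1).trans (map_zero χ)
        rw [MonObj.comp_mul, InvRing21.gPt, ← Category.assoc, InvRing21.ptMap_comp, InvRing21.xPt,
          ← Category.assoc, InvRing21.ptMap_comp] at h2
        have e1 : (χ.comp ((Φ B).restrictScalars k)).comp
            (Algebra.TensorProduct.includeRight : Γ(G.left, ⊤) →ₐ[k] B ⊗[k] Γ(G.left, ⊤)) =
            (Algebra.ofId k B).comp ((InvRing21.val (1 : VecGrp.pt k k ⟶ H)).comp A) :=
          AlgHom.ext fun f => by simp [Φ, χ, ε]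
        have e2 : (χ.comp ((Φ B).restrictScalars k)).comp
            (Algebra.TensorProduct.includeLeft : B →ₐ[k] B ⊗[k] Γ(G.left, ⊤)) = AlgHom.id k B :=
          AlgHom.ext fun f => by simp [Φ, χ, ε]
        rw [e1, e2, ← InvRing21.ptMap_comp, Category.assoc] at h2
        have e3 : VecGrp.ptMap ((InvRing21.val (1 : VecGrp.pt k k ⟶ H)).comp A) ≫ InvRing21.uPt G = 1 := by
          rw [← InvRing21.ptMap_comp, Category.assoc, InvRing21.ptMap_appAlg, ← Category.assoc,
            InvRing21.ptMap_val, MonObj.one_comp]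
        have e4 : VecGrp.ptMap (AlgHom.id k B) = 𝟙 _ := Over.OverMorphism.ext (Spec.map_id _)
        rw [e3, e4, Category.id_comp, MonObj.comp_one, _root_.one_mul g] at h2
        exact h2
      let χ : Γ(H.left, ⊤) →ₐ[k] B := AlgHom.liftOfSurjective A hA (InvRing21.val g) hle
      refine ⟨VecGrp.ptMap χ ≫ InvRing21.uPt H, ?_⟩
      rw [Category.assoc, ← InvRing21.ptMap_appAlg, ← Category.assoc, InvRing21.ptMap_comp,
        show χ.comp (InvRing21.appAlg i) = InvRing21.val g from AlgHom.liftOfSurjective_comp _ _ _ _,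
        InvRing21.ptMap_val]
    · rintro ⟨h, rfl⟩
      refine Module.Grassmannian.ext ?_
      rw [actPt_toSubmodule, hgN]
      refine le_antisymm ?_ fun z hz => ?_
      · rintro _ ⟨z, hz, rfl⟩
        exact hmem B h z hz
      · refine ⟨σ.ρ B (h⁻¹ ≫ i) z, hmem B h⁻¹ z hz, ?_⟩
        show (σ.ρ B (h ≫ i) * σ.ρ B (h⁻¹ ≫ i)) z = z
        rw [← map_mul, GrpObj.inv_comp, mul_inv_cancel, map_one]
        rfl
  obtain ⟨Go, _, j, hj, hjc, hsq⟩ := BorelFix21.exists_stabilizer (action σ) (sec N)
  haveI := hjc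
  haveI : IsAffine Go.left := isAffine_of_isAffineHom j.left
  haveI : Mono j := Over.mono_of_mono_left j
  haveI : Mono i := Over.mono_of_mono_left i
  have hw : i ≫ (action σ).orbitMap (sec N) = toUnit H ≫ sec N := hom_ext_pts fun C _ _ x => by
    rw [← Category.assoc, ← Category.assoc x, comp_toUnit]
    exact (key C (x ≫ i)).2 ⟨x, rfl⟩
  let l : H ⟶ Go := hsq.lift i (toUnit H) hw
  have hl : l ≫ j = i := hsq.lift_fst _ _ _
  obtain ⟨h, hh⟩ := (key _ (InvRing21.uPt Go ≫ j)).1 (by
    rw [Category.assoc, hsq.w, ← Category.assoc, comp_toUnit])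
  haveI : IsIso (InvRing21.uPt Go).left := inferInstanceAs (IsIso Go.left.isoSpec.inv)
  haveI : IsIso ((Over.forget _).map (InvRing21.uPt Go)) := ‹IsIso (InvRing21.uPt Go).left›
  haveI : IsIso (InvRing21.uPt Go) := isIso_of_reflects_iso _ (Over.forget _)
  let l' : Go ⟶ H := inv (InvRing21.uPt Go) ≫ h
  have hl' : l' ≫ i = j := by rw [Category.assoc, hh, IsIso.inv_hom_id_assoc]
  let e : Go ≅ H := ⟨l', l, by rw [← cancel_mono j, Category.assoc, hl, hl', Category.id_comp],
    by rw [← cancel_mono i, Category.assoc, hl', hl, Category.id_comp]⟩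
  exact hsq.of_iso e (Iso.refl _) (Iso.refl _) (Iso.refl _) (by simpa [e] using hl'.symm) (by simp) (by simp) (by simp)

/-- Quotients of smooth affine groups by closed subgroups. -/
theorem exists_quotient [Smooth G.hom] {H : Over (Spec (CommRingCat.of k))} [GrpObj H] (i : H ⟶ G) [IsMonHom i]
    [IsClosedImmersion i.left] :
    ∃ (X : Over (Spec (CommRingCat.of k))) (a : AlgGrp.Action G X) (o : 𝟙_ (Over (Spec (CommRingCat.of k))) ⟶ X),
      AGF.IsQuotient i X a o ∧ IsSeparated X.hom ∧ QuasiCompact X.hom := by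
  obtain ⟨V, _, _, r, σ, N, hfin, hr, hsq⟩ := exists_stabilizer_sec i
  haveI := hfin
  haveI : Fact (r ≤ Module.finrank k V) := ⟨hr⟩
  obtain ⟨X, a, o, f, hX, -, -, -⟩ := Groth.Agent.S8022.result k G (GrassLib.grOver k V r) H (action σ) (sec N) i hsq
  haveI := InvRing21.IsQuotient.compactSpace hX
  exact ⟨X, a, o, hX, InvRing21.IsQuotient.isSeparated hX, (quasiCompact_iff_compactSpace X.hom).2 inferInstance⟩

end Groth.Agent.GrassAct21
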