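import Groth.Agent.Lib.GrassAct21.Basic
import Groth.Agent.Lib.InvRing21.Semi
import Groth.Agent.Lib.BorelFix21.Solvable

/-!
# Subrepresentations from stability at rational points; fixed hyperplanes and solvability
-/

set_option autoImplicit false
set_option linter.style.haveILetI false
set_option backward.isDefEq.respectTransparency.types false
universe u

open CategoryTheory MonoidalCategory CartesianMonoidalCategory MonObj AlgebraicGeometry
open scoped TensorProduct

noncomputable section

namespace Groth.Agent.GrassAct21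

variable {k : Type u} [Field k]

attribute [local instance] InvRing21.gamAlg

variable {G : Over (Spec (CommRingCat.of k))} [GrpObj G] {M M' : Type u} [AddCommGroup M] [Module k M]
  [AddCommGroup M'] [Module k M']

/-- A subspace stable under rational points of a smooth affine group carries a representation. -/
theorem exists_subMod [IsAlgClosed k] [IsAffine G.left] [Smooth G.hom] (ρ : VecGrp.GMod G M) (U : Submodule k M)
    (hU : ∀ g : VecGrp.pt k k ⟶ G, ∀ u ∈ U, TensorProduct.lid k M (ρ.ρ k g ((1 : k) ⊗ₜ[k] u)) ∈ U) :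
    ∃ σ : VecGrp.GMod G U, ∀ (B : Type u) [CommRing B] [Algebra k B] (g : VecGrp.pt k B ⟶ G) (x : B ⊗[k] U),
      U.subtype.baseChange B (σ.ρ B g x) = ρ.ρ B g (U.subtype.baseChange B x) := by
  obtain ⟨π, hπ⟩ := LinearMap.exists_leftInverse_of_injective U.subtype U.ker_subtype
  have hπι : ∀ (B : Type u) [CommRing B] [Algebra k B] (x : B ⊗[k] U),
      π.baseChange B (U.subtype.baseChange B x) = x := fun B _ _ x => by
    rw [← LinearMap.comp_apply, ← LinearMap.baseChange_comp, hπ, LinearMap.baseChange_id, LinearMap.id_apply]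
  have hkey : ∀ (B : Type u) [CommRing B] [Algebra k B] (g : VecGrp.pt k B ⟶ G) (x : B ⊗[k] U),
      U.subtype.baseChange B (π.baseChange B (ρ.ρ B g (U.subtype.baseChange B x))) =
        ρ.ρ B g (U.subtype.baseChange B x) := by
    intro B _ _ g x
    induction x using TensorProduct.induction_on with
    | zero => simp
    | add x y hx hy => simp only [map_add, hx, hy]
    | tmul b u =>
      suffices h : U.subtype.baseChange B (π.baseChange B (ρ.ρ B g (1 ⊗ₜ[k] (u : M)))) = ρ.ρ B g (1 ⊗ₜ[k] (u : M)) by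
        rw [show b ⊗ₜ[k] u = b • ((1 : B) ⊗ₜ[k] u) by rw [TensorProduct.smul_tmul', smul_eq_mul, _root_.mul_one],
          map_smul, map_smul, map_smul, map_smul, LinearMap.baseChange_tmul]
        exact congrArg (b • ·) h
      refine InvRing21.eq_of_ctr_eq fun ξ => ?_
      have hc : ∀ (C : Type u) [CommRing C] [Algebra k C] (z : C ⊗[k] M),
          InvRing21.ctr ξ (U.subtype.baseChange C (π.baseChange C z)) =
            InvRing21.ctr (ξ ∘ₗ U.subtype ∘ₗ π) z := fun C _ _ z => by
        induction z using TensorProduct.induction_on with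
        | zero => simp
        | tmul c m => rfl
        | add p q hp hq => simp only [map_add, hp, hq]
      rw [hc, InvRing21.ctr_rho, InvRing21.ctr_rho]
      refine congrArg (InvRing21.val g) (InvRing21.ext_val fun y => ?_)
      rw [← InvRing21.ctr_rho, ← InvRing21.ctr_rho, ← hc]
      congr 1
      set z := TensorProduct.lid k M (ρ.ρ k y ((1 : k) ⊗ₜ[k] (u : M)))
      have hz : ρ.ρ k y ((1 : k) ⊗ₜ[k] (u : M)) = (1 : k) ⊗ₜ[k] z := by
        show _ = (TensorProduct.lid k M).symm z
        exact (LinearEquiv.symm_apply_apply _ _).symm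
      rw [hz, LinearMap.baseChange_tmul, LinearMap.baseChange_tmul]
      have hzU : z ∈ U := hU y u u.2
      exact congrArg _ (congrArg Subtype.val (LinearMap.congr_fun hπ ⟨z, hzU⟩))
  let op : ∀ (B : Type u) [CommRing B] [Algebra k B], (VecGrp.pt k B ⟶ G) → (B ⊗[k] U →ₗ[B] B ⊗[k] U) :=
    fun B _ _ g => π.baseChange B ∘ₗ (ρ.ρ B g).toLinearMap ∘ₗ U.subtype.baseChange B
  have hmul : ∀ (B : Type u) [CommRing B] [Algebra k B] (g g' : VecGrp.pt k B ⟶ G) (x : B ⊗[k] U),
      op B g (op B g' x) = op B (g * g') x := fun B _ _ g g' x => by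
    show π.baseChange B (ρ.ρ B g (U.subtype.baseChange B (π.baseChange B _))) = π.baseChange B (ρ.ρ B (g * g') _)
    rw [LinearMap.comp_apply, LinearEquiv.coe_coe, hkey, map_mul]
    rfl
  have hone : ∀ (B : Type u) [CommRing B] [Algebra k B] (x : B ⊗[k] U), op B 1 x = x := fun B _ _ x => by
    show π.baseChange B (ρ.ρ B 1 _) = x
    rw [map_one]
    exact hπι B x
  let hom : ∀ (B : Type u) [CommRing B] [Algebra k B], (VecGrp.pt k B ⟶ G) →* (B ⊗[k] U ≃ₗ[B] B ⊗[k] U) :=
    fun B _ _ =>
      { toFun := fun g => LinearEquiv.ofLinearMap (op B g) (op B g⁻¹)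
          (LinearMap.ext fun x => by rw [LinearMap.comp_apply, hmul, mul_inv_cancel, hone]; rfl)
          (LinearMap.ext fun x => by rw [LinearMap.comp_apply, hmul, inv_mul_cancel, hone]; rfl)
        map_one' := LinearEquiv.ext fun x => hone B x
        map_mul' := fun g g' => LinearEquiv.ext fun x => (hmul B g g' x).symm }
  refine ⟨⟨hom, fun {B B'} _ _ _ _ φ g x => ?_⟩, fun B _ _ g x => ?_⟩
  · show VecGrp.Wmap φ (π.baseChange B (ρ.ρ B g _)) = π.baseChange B' (ρ.ρ B' _ _)
    rw [VecGrp.baseChange_natural, ρ.naturality, VecGrp.baseChange_natural]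
  · exact hkey B g x

theorem lid_baseChange (f : M →ₗ[k] M') (z : k ⊗[k] M) :
    TensorProduct.lid k M' (f.baseChange k z) = f (TensorProduct.lid k M z) := by
  induction z using TensorProduct.induction_on with
  | zero => simp
  | tmul c m => simp
  | add p q hp hq => simp only [map_add, hp, hq]

/-- A fixed hyperplane of a stable subspace. -/
theorem exists_stable_hyperplane (σ : VecGrp.GMod G M) (U : Submodule k M) (τ : VecGrp.GMod G U)
    (hτ : ∀ (B : Type u) [CommRing B] [Algebra k B] (g : VecGrp.pt k B ⟶ G) (x : B ⊗[k] U),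
      U.subtype.baseChange B (τ.ρ B g x) = σ.ρ B g (U.subtype.baseChange B x))
    (N : GrassLib.Pt k U 1 k) (hN : ∀ g, actPt (τ.ρ k g) N = N) :
    ∃ U' : Submodule k M, U' ≤ U ∧
      (∀ g : VecGrp.pt k k ⟶ G, ∀ u ∈ U', TensorProduct.lid k M (σ.ρ k g ((TensorProduct.lid k M).symm u)) ∈ U') ∧
      ∃ v ∈ U, v ∉ U' ∧ U ≤ U' ⊔ k ∙ v := by
  let N' : Submodule k U := N.toSubmodule.map (TensorProduct.lid k U).toLinearMap
  haveI : Module.Free k ((k ⊗[k] U) ⧸ N.toSubmodule) := Module.Free.of_divisionRing _ _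
  have hquot : Module.finrank k (U ⧸ N') = 1 := by
    rw [← LinearEquiv.finrank_eq (Submodule.Quotient.equiv N.toSubmodule N' (TensorProduct.lid k U) rfl)]
    have h := N.rankAtStalk_eq ⟨⊥, Ideal.isPrime_bot⟩
    rwa [Module.rankAtStalk_eq_finrank_of_free] at h
  refine ⟨N'.map U.subtype, Submodule.map_subtype_le U N', ?_, ?_⟩
  · rintro g _ ⟨_, ⟨x, hx, rfl⟩, rfl⟩
    have hx' : τ.ρ k g x ∈ N.toSubmodule := by
      have e := congrArg Module.Grassmannian.toSubmodule (hN g)
      rw [← e]
      exact ⟨x, hx, rfl⟩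
    refine ⟨_, ⟨_, hx', rfl⟩, ?_⟩
    have e := congrArg (TensorProduct.lid k M) (hτ k g x)
    rw [lid_baseChange] at e
    refine e.trans (congrArg (fun z => TensorProduct.lid k M (σ.ρ k g z)) ?_)
    rw [LinearEquiv.eq_symm_apply, lid_baseChange]
    rfl
  · obtain ⟨q, hq, hspan⟩ := finrank_eq_one_iff'.1 hquot
    obtain ⟨v, rfl⟩ := Submodule.mkQ_surjective N' q
    refine ⟨v, v.2, fun hv => ?_, fun u hu => ?_⟩
    · obtain ⟨v', hv', e⟩ := hv
      exact hq ((Submodule.Quotient.mk_eq_zero N').2 (U.injective_subtype e ▸ hv'))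
    · obtain ⟨c, hc⟩ := hspan (N'.mkQ ⟨u, hu⟩)
      rw [← map_smul] at hc
      refine Submodule.mem_sup.2 ⟨_, ⟨⟨u, hu⟩ - c • v, ?_, rfl⟩, c • (v : M), Submodule.smul_mem _ _
        (Submodule.mem_span_singleton_self _), ?_⟩
      · exact (Submodule.Quotient.eq N').1 hc.symm
      · simp

/-- Without a representation lacking a fixed hyperplane a smooth affine group is solvable. -/
theorem isSolvableGrp_of_fixed [IsAlgClosed k] [IsAffine G.left] [Smooth G.hom]
    (h : ∀ (W : Type u) [AddCommGroup W] [Module k W] [Module.Finite k W], 0 < Module.finrank k W →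
      ∀ σ : VecGrp.GMod G W, ∃ N : GrassLib.Pt k W 1 k, ∀ g, actPt (σ.ρ k g) N = N) :
    Red.IsSolvableGrp G := by
  classical
  haveI := InvRing21.finiteType_gam G
  obtain ⟨s, hs⟩ := Algebra.FiniteType.out (R := k) (A := Γ(G.left, ⊤))
  obtain ⟨W, hWfin, hmem, hW⟩ := InvRing21.exists_stable_span (InvRing21.regular G) s
  haveI := hWfin
  have hstab : ∀ g : VecGrp.pt k k ⟶ G, ∀ w ∈ W, (InvRing21.rTr g).left.appTop w ∈ W := fun g w hw => by
    obtain ⟨n, cs, us, hus, he⟩ := hW w hw k g
    have : (InvRing21.rTr g).left.appTop w = ∑ a, cs a • us a := InvRing21.ext_val fun x => by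
      rw [InvRing21.val_rTr, InvRing21.val_mul_eq, he, map_sum, map_sum]
      simp [smul_eq_mul]
    rw [this]
    exact Submodule.sum_mem _ fun a _ => W.smul_mem _ (hus a)
  have hlid : ∀ (g : VecGrp.pt k k ⟶ G) (w : Γ(G.left, ⊤)),
      TensorProduct.lid k _ ((InvRing21.regular G).ρ k g ((1 : k) ⊗ₜ[k] w)) = (InvRing21.rTr g).left.appTop w := by
    intro g w
    refine InvRing21.ext_val fun x => ?_
    rw [InvRing21.val_rTr, InvRing21.val_mul_eq]
    generalize (InvRing21.regular G).ρ k g ((1 : k) ⊗ₜ[k] w) = z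
    induction z using TensorProduct.induction_on with
    | zero => simp
    | tmul c m => simp [smul_eq_mul]
    | add p q hp hq => simp only [map_add, hp, hq]
  obtain ⟨σ, hσ⟩ := exists_subMod (InvRing21.regular G) W fun g w hw => by rw [hlid]; exact hstab g w hw
  let ρW : (VecGrp.pt k k ⟶ G) →* (↥W ≃ₗ[k] ↥W) :=
    { toFun := fun g => (TensorProduct.lid k W).symm ≪≫ₗ σ.ρ k g ≪≫ₗ TensorProduct.lid k W
      map_one' := LinearEquiv.ext fun w => by simp
      map_mul' := fun g g' => LinearEquiv.ext fun w => by simp }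
  have hρW : ∀ g (w : W), ((ρW g w : W) : Γ(G.left, ⊤)) = (InvRing21.rTr g).left.appTop w := fun g w => by
    rw [← hlid, show ((1 : k) ⊗ₜ[k] (w : Γ(G.left, ⊤))) = W.subtype.baseChange k ((1 : k) ⊗ₜ[k] w) from rfl, ← hσ]
    show W.subtype (TensorProduct.lid k W (σ.ρ k g ((1 : k) ⊗ₜ[k] w))) = _
    generalize σ.ρ k g ((1 : k) ⊗ₜ[k] w) = z
    induction z using TensorProduct.induction_on with
    | zero => simp
    | tmul c m => simp
    | add p q hp hq => simp only [map_add, hp, hq]
  refine BorelFix21.isSolvableGrp_of_points (BorelFix21.isSolvable_of_chain ρW ?_ ?_)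
  · intro g g' e
    have hval : InvRing21.val g = InvRing21.val g' := AlgHom.ext_of_adjoin_eq_top hs fun w hw => by
      have := congrArg (fun z : W => InvRing21.val (1 : VecGrp.pt k k ⟶ G) (z : Γ(G.left, ⊤)))
        (LinearEquiv.congr_fun e ⟨w, hmem w hw⟩)
      simp only [hρW, InvRing21.val_rTr] at this
      rwa [_root_.one_mul g, _root_.one_mul g'] at this
    rw [← InvRing21.ptMap_val g, hval, InvRing21.ptMap_val]
  · intro U hU0 hU
    have hUM : ∀ g : VecGrp.pt k k ⟶ G, ∀ u ∈ U, TensorProduct.lid k W (σ.ρ k g ((1 : k) ⊗ₜ[k] u)) ∈ U :=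
      fun g u hu => hU g u hu
    obtain ⟨τ, hτ⟩ := exists_subMod σ U hUM
    haveI : Nontrivial U := Submodule.nontrivial_iff_ne_bot.2 hU0
    obtain ⟨N, hN⟩ := h U Module.finrank_pos τ
    exact exists_stable_hyperplane σ U τ hτ N hN

end Groth.Agent.GrassAct21
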