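import Groth.Agent.Lib.Grass.Glue
import Groth.Agent.Lib.Grass.Stable
import Groth.Agent.Lib.LG29.Glue
import Groth.Agent.Lib.LG29.Construct
import Groth.Prelude.Def_VecGrp
import Groth.Prelude.Def_ChGrp

/-!
# The action on a Grassmannian of a linear representation of a group scheme
-/

set_option autoImplicit false
set_option linter.style.haveILetI false
set_option backward.isDefEq.respectTransparency.types false
universe u

open CategoryTheory MonoidalCategory CartesianMonoidalCategory MonObj AlgebraicGeometry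
open scoped TensorProduct

noncomputable section

namespace Groth.Agent.GrassAct21

open GrassLib

variable {k : Type u} [Field k] {V : Type u} [AddCommGroup V] [Module k V] {r : ℕ}

/-- The morphism to the Grassmannian given by a point. -/
def mor {C : Type u} [CommRing C] [Algebra k C] (N : Pt k V r C) : VecGrp.pt k C ⟶ grOver k V r :=
  Over.homMk (classify N) (classify_toBase N)

/-- The point given by a morphism to the Grassmannian. -/
def ptOf {C : Type u} [CommRing C] [Algebra k C] (x : VecGrp.pt k C ⟶ grOver k V r) : Pt k V r C :=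
  ptEquiv C (Over.homMk x.left (Over.w x))

theorem classify_ptOf {C : Type u} [CommRing C] [Algebra k C] (x : VecGrp.pt k C ⟶ grOver k V r) :
    classify (ptOf x) = x.left := classify_ptEquiv _

theorem mor_ptOf {C : Type u} [CommRing C] [Algebra k C] (x : VecGrp.pt k C ⟶ grOver k V r) : mor (ptOf x) = x :=
  Over.OverMorphism.ext (classify_ptOf x)

theorem ptOf_mor {C : Type u} [CommRing C] [Algebra k C] (N : Pt k V r C) : ptOf (mor N) = N :=
  classify_injective (classify_ptOf _)

theorem ptMap_mor {C D : Type u} [CommRing C] [Algebra k C] [CommRing D] [Algebra k D] (φ : C →ₐ[k] D)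
    (N : Pt k V r C) : VecGrp.ptMap φ ≫ mor N = mor (gmap φ N) :=
  Over.OverMorphism.ext (sp_classify φ N)

theorem ptOf_ptMap {C D : Type u} [CommRing C] [Algebra k C] [CommRing D] [Algebra k D] (φ : C →ₐ[k] D)
    (x : VecGrp.pt k C ⟶ grOver k V r) : ptOf (VecGrp.ptMap φ ≫ x) = gmap φ (ptOf x) :=
  classify_injective (by rw [classify_ptOf, ← sp_classify, classify_ptOf]; rfl)

/-- The image of a point under a linear automorphism. -/
def actPt {C : Type u} [CommRing C] [Algebra k C] (e : C ⊗[k] V ≃ₗ[C] C ⊗[k] V) (N : Pt k V r C) : Pt k V r C :=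
  have q : ((C ⊗[k] V) ⧸ N.toSubmodule) ≃ₗ[C] (C ⊗[k] V) ⧸ N.toSubmodule.map e.toLinearMap :=
    Submodule.Quotient.equiv _ _ e rfl
  { toSubmodule := N.toSubmodule.map e.toLinearMap
    finite_quotient := Module.Finite.equiv q
    projective_quotient := Module.Projective.of_equiv q
    rankAtStalk_eq := fun p => by
      rw [← Module.rankAtStalk_eq_of_equiv q]
      exact N.rankAtStalk_eq p }

theorem actPt_toSubmodule {C : Type u} [CommRing C] [Algebra k C] (e : C ⊗[k] V ≃ₗ[C] C ⊗[k] V) (N : Pt k V r C) :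
    (actPt e N).toSubmodule = N.toSubmodule.map e.toLinearMap := rfl

theorem actPt_one {C : Type u} [CommRing C] [Algebra k C] (N : Pt k V r C) : actPt 1 N = N :=
  Module.Grassmannian.ext (by rw [actPt_toSubmodule]; exact Submodule.map_id _)

theorem actPt_mul {C : Type u} [CommRing C] [Algebra k C] (e e' : C ⊗[k] V ≃ₗ[C] C ⊗[k] V) (N : Pt k V r C) :
    actPt (e * e') N = actPt e (actPt e' N) := Module.Grassmannian.ext (by
  rw [actPt_toSubmodule, actPt_toSubmodule, actPt_toSubmodule, ← Submodule.map_comp]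
  rfl)

variable {G : Over (Spec (CommRingCat.of k))} [GrpObj G] (ρ : VecGrp.GMod G V)

theorem gmap_actPt {C D : Type u} [CommRing C] [Algebra k C] [CommRing D] [Algebra k D] (φ : C →ₐ[k] D)
    (g : VecGrp.pt k C ⟶ G) (N : Pt k V r C) :
    gmap φ (actPt (ρ.ρ C g) N) = actPt (ρ.ρ D (VecGrp.ptMap φ ≫ g)) (gmap φ N) := by
  refine Module.Grassmannian.ext ?_
  rw [gmap_eq_span, actPt_toSubmodule, actPt_toSubmodule, gmap_eq_span, Submodule.map_span]
  congr 1
  ext z
  constructor
  · rintro ⟨_, ⟨v, hv, rfl⟩, rfl⟩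
    exact ⟨_, ⟨v, hv, rfl⟩, (ρ.naturality φ g v).symm⟩
  · rintro ⟨_, ⟨v, hv, rfl⟩, rfl⟩
    exact ⟨_, ⟨v, hv, rfl⟩, ρ.naturality φ g v⟩

/-- The action at a test algebra. -/
def actMor {C : Type u} [CommRing C] [Algebra k C] (x : VecGrp.pt k C ⟶ G ⊗ grOver k V r) :
    VecGrp.pt k C ⟶ grOver k V r :=
  mor (actPt (ρ.ρ C (x ≫ fst _ _)) (ptOf (x ≫ snd _ _)))

theorem ptMap_actMor {C D : Type u} [CommRing C] [Algebra k C] [CommRing D] [Algebra k D] (φ : C →ₐ[k] D)
    (x : VecGrp.pt k C ⟶ G ⊗ grOver k V r) : VecGrp.ptMap φ ≫ actMor ρ x = actMor ρ (VecGrp.ptMap φ ≫ x) := by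
  rw [actMor, ptMap_mor, gmap_actPt, ← ptOf_ptMap, actMor, Category.assoc, Category.assoc]

/-- Morphisms over the base agreeing on affine points are equal. -/
theorem hom_ext_pts {Y Z : Over (Spec (CommRingCat.of k))} {f f' : Y ⟶ Z}
    (h : ∀ (C : Type u) [CommRing C] [Algebra k C] (x : VecGrp.pt k C ⟶ Y), x ≫ f = x ≫ f') : f = f' := by
  refine Over.OverMorphism.ext (LG29.hom_ext_points fun C g => ?_)
  obtain ⟨α, hα⟩ : ∃ α, Spec.map α = g ≫ Y.hom := ⟨_, Spec.map_preimage _⟩
  letI : Algebra k C := α.hom.toAlgebra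
  exact congrArg CommaMorphism.left (h C (Over.homMk g hα.symm))

theorem exists_act : ∃ act : G ⊗ grOver k V r ⟶ grOver k V r,
    ∀ (C : Type u) [CommRing C] [Algebra k C] (x : VecGrp.pt k C ⟶ G ⊗ grOver k V r), x ≫ act = actMor ρ x := by
  let Φ : ∀ {C : CommRingCat.{u}}, (Spec C ⟶ (G ⊗ grOver k V r).left) → (Spec C ⟶ (grOver k V r).left) :=
    fun {C} h =>
      letI : Algebra k C := (Spec.preimage (h ≫ (G ⊗ grOver k V r).hom)).hom.toAlgebra
      (actMor ρ (Over.homMk h (Spec.map_preimage _).symm : VecGrp.pt k C ⟶ G ⊗ grOver k V r)).left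
  have key : ∀ {C : Type u} [CommRing C] (alg alg' : Algebra k C) (h : Spec (CommRingCat.of C) ⟶ (G ⊗ grOver k V r).left)
      (w : h ≫ (G ⊗ grOver k V r).hom = Spec.map (CommRingCat.ofHom (@algebraMap k C _ _ alg)))
      (w' : h ≫ (G ⊗ grOver k V r).hom = Spec.map (CommRingCat.ofHom (@algebraMap k C _ _ alg'))),
      (@actMor k _ V _ _ r G _ ρ C _ alg (Over.homMk h w)).left =
        (@actMor k _ V _ _ r G _ ρ C _ alg' (Over.homMk h w')).left := by
    intro C _ alg alg' h w w'
    obtain rfl : alg = alg' := Algebra.algebra_ext _ _ fun c =>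
      RingHom.congr_fun (congrArg CommRingCat.Hom.hom (Spec.map_injective (w.symm.trans w'))) c
    rfl
  have hΦ : ∀ {C : Type u} [CommRing C] [alg : Algebra k C] (x : VecGrp.pt k C ⟶ G ⊗ grOver k V r),
      Φ (C := CommRingCat.of C) x.left = (actMor ρ x).left := fun {C} _ alg x =>
    key (Spec.preimage (x.left ≫ (G ⊗ grOver k V r).hom)).hom.toAlgebra alg x.left (Spec.map_preimage _).symm (Over.w x)
  obtain ⟨ψ, hψ⟩ := LG29.exists_glue Φ (fun {C D} h φ => by
    letI algC : Algebra k C := (Spec.preimage (h ≫ (G ⊗ grOver k V r).hom)).hom.toAlgebra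
    letI algD : Algebra k D := (φ.hom.comp (algebraMap k C)).toAlgebra
    let φ' : C →ₐ[k] D := { φ.hom with commutes' := fun _ => rfl }
    let x : VecGrp.pt k C ⟶ G ⊗ grOver k V r := Over.homMk h (Spec.map_preimage _).symm
    have h1 := hΦ (C := D) (VecGrp.ptMap φ' ≫ x)
    rw [← ptMap_actMor] at h1
    exact h1.trans (by rw [Over.comp_left, ← hΦ (C := C) x]; rfl))
  refine ⟨Over.homMk ψ (LG29.hom_ext_points fun C g => ?_), fun C _ _ x => ?_⟩
  · obtain ⟨α, hα⟩ : ∃ α, Spec.map α = g ≫ (G ⊗ grOver k V r).hom := ⟨_, Spec.map_preimage _⟩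
    letI : Algebra k C := α.hom.toAlgebra
    let x : VecGrp.pt k C ⟶ G ⊗ grOver k V r := Over.homMk g hα.symm
    rw [← Category.assoc, show g ≫ ψ = (actMor ρ x).left from (hψ g).trans (hΦ (C := C) x), Over.w]
    exact hα
  · exact Over.OverMorphism.ext ((hψ x.left).trans (hΦ x))

/-- The action morphism. -/
def actHom : G ⊗ grOver k V r ⟶ grOver k V r := (exists_act ρ).choose

theorem lift_actHom {C : Type u} [CommRing C] [Algebra k C] (g : VecGrp.pt k C ⟶ G)
    (x : VecGrp.pt k C ⟶ grOver k V r) : lift g x ≫ actHom ρ = mor (actPt (ρ.ρ C g) (ptOf x)) := by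
  rw [actHom, (exists_act ρ).choose_spec, actMor, lift_fst, lift_snd]

theorem one_actHom : (η[G] ▷ grOver k V r) ≫ actHom ρ = (λ_ (grOver k V r)).hom := by
  refine hom_ext_pts fun C _ _ x => ?_
  have hx : x = lift (x ≫ fst _ _) (x ≫ snd _ _) := by
    apply CartesianMonoidalCategory.hom_ext <;> simp
  rw [hx, lift_whiskerRight_assoc, lift_actHom, lift_leftUnitor_hom]
  have h1 : (x ≫ fst _ _) ≫ η[G] = 1 := by rw [Hom.one_def, toUnit_unique (x ≫ fst _ _) (toUnit _)]
  rw [h1, map_one, actPt_one, mor_ptOf]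

theorem mul_actHom : (μ[G] ▷ grOver k V r) ≫ actHom ρ =
    (α_ G G (grOver k V r)).hom ≫ (G ◁ actHom ρ) ≫ actHom ρ := by
  refine hom_ext_pts fun C _ _ x => ?_
  have hx : x = lift (lift (x ≫ fst _ _ ≫ fst G G) (x ≫ fst _ _ ≫ snd G G)) (x ≫ snd _ _) := by
    apply CartesianMonoidalCategory.hom_ext
    · apply CartesianMonoidalCategory.hom_ext <;> simp
    · simp
  generalize x ≫ fst _ _ ≫ fst G G = g, x ≫ fst _ _ ≫ snd G G = g', x ≫ snd _ _ = m at hx
  subst hx
  rw [lift_whiskerRight_assoc, lift_actHom, lift_lift_associator_hom_assoc, lift_whiskerLeft_assoc, lift_actHom,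
    lift_actHom, ptOf_mor, ← actPt_mul, ← map_mul, Hom.mul_def]

/-- The action of `G` on the Grassmannian of a representation. -/
def action : AlgGrp.Action G (grOver k V r) := ⟨actHom ρ, one_actHom ρ, mul_actHom ρ⟩

theorem lift_action {C : Type u} [CommRing C] [Algebra k C] (g : VecGrp.pt k C ⟶ G) (N : Pt k V r C) :
    lift g (mor N) ≫ (action ρ).act = mor (actPt (ρ.ρ C g) N) := by
  rw [show (action ρ (r := r)).act = actHom ρ from rfl, lift_actHom, ptOf_mor]

/-- The point of the Grassmannian given by a rational point, as a section. -/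
def sec (N : Pt k V r k) : 𝟙_ (Over (Spec (CommRingCat.of k))) ⟶ grOver k V r :=
  Over.homMk (classify N) (by
    exact (classify_toBase N).trans (Spec.map_id _))

theorem exists_eq_sec (x : 𝟙_ (Over (Spec (CommRingCat.of k))) ⟶ grOver k V r) : ∃ N, sec N = x := by
  refine ⟨ptEquiv k (Over.homMk x.left ?_), Over.OverMorphism.ext (classify_ptEquiv _)⟩
  have h : x.left ≫ (grOver k V r).hom = 𝟙 _ := Over.w x
  rw [h]
  exact (Spec.map_id _).symm

theorem toUnit_sec {C : Type u} [CommRing C] [Algebra k C] (N : Pt k V r k) :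
    toUnit (VecGrp.pt k C) ≫ sec N = mor (gmap (Algebra.ofId k C) N) := by
  refine Over.OverMorphism.ext ?_
  show (toUnit (VecGrp.pt k C)).left ≫ classify N = classify (gmap (Algebra.ofId k C) N)
  rw [← sp_classify]
  rfl

/-- Points moving a section. -/
theorem comp_orbitMap_eq_iff {C : Type u} [CommRing C] [Algebra k C] (g : VecGrp.pt k C ⟶ G) (N : Pt k V r k) :
    g ≫ (action ρ).orbitMap (sec N) = toUnit _ ≫ sec N ↔
      actPt (ρ.ρ C g) (gmap (Algebra.ofId k C) N) = gmap (Algebra.ofId k C) N := by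
  rw [AlgGrp.Action.comp_orbitMap, toUnit_sec, lift_action]
  exact ⟨fun h => classify_injective (congrArg CommaMorphism.left h), fun h => by rw [h]⟩

instance isProper_grOver [Module.Finite k V] [Fact (r ≤ Module.finrank k V)] : IsProper (grOver k V r).hom := by
  let hX : GrassLib.Rep k V r (grOver k V r) :=
    { e := fun A => ptEquiv A, natural := fun A B φ g g' h => ptEquiv_natural φ.hom g g' h }
  obtain ⟨c, hc, hc'⟩ := hX.exists_plucker (Module.finBasis k V) (Fact.out : r ≤ Module.finrank k V)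
  rw [← hc']
  infer_instance

end Groth.Agent.GrassAct21
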